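import Mathlib

set_option linter.unusedSectionVars false
set_option linter.unusedVariables false
set_option linter.unusedSimpArgs false
set_option autoImplicit false
set_option maxHeartbeats 400000

noncomputable section

namespace Groth.Agent.Lib.Helper6.BiDesc

open scoped TensorProduct
open TensorProduct

universe u

variable {K : Type u} [Field K] {A : Type u} [CommRing A] [Algebra K A]

/-- compatibility of basis coordinates with base change maps. -/
lemma repr_map {S T : Type*} [CommRing S] [Algebra K S] [CommRing T] [Algebra K T]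
    (ρ : S →ₐ[K] T) {J : Type*} (𝒷 : Module.Basis J K A) (z : S ⊗[K] A) (j : J) :
    (Algebra.TensorProduct.basis T 𝒷).repr
      (Algebra.TensorProduct.map ρ (AlgHom.id K A) z) j =
      ρ ((Algebra.TensorProduct.basis S 𝒷).repr z j) := by
  induction z using TensorProduct.induction_on with
  | zero => simp
  | tmul x a =>
    rw [Algebra.TensorProduct.map_tmul, Algebra.TensorProduct.basis_repr_tmul,
      Algebra.TensorProduct.basis_repr_tmul]
    simp [Finsupp.mapRange_apply]
  | add x y hx hy =>
    simp only [map_add, Finsupp.add_apply, hx, hy]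

variable {ιv ιe : Type u} [Finite ιv] [Finite ιe]
    {Kv : ιv → Type u} [∀ i, CommRing (Kv i)] [∀ i, Algebra K (Kv i)]
    {Ke : ιe → Type u} [∀ k, CommRing (Ke k)] [∀ k, Algebra K (Ke k)]
    {l r : ιe → ιv} (ρl : ∀ k, Kv (l k) →ₐ[K] Ke k) (ρr : ∀ k, Kv (r k) →ₐ[K] Ke k)
    (hlim : ∀ x : (∀ i, Kv i), (∀ k, ρl k (x (l k)) = ρr k (x (r k))) →
      ∃! a : K, ∀ i, algebraMap K (Kv i) a = x i)

include hlim in
/-- the equalizer property after tensoring with `A`. -/
theorem exists_descent (z : ∀ i, Kv i ⊗[K] A)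
    (hz : ∀ k, Algebra.TensorProduct.map (ρl k) (AlgHom.id K A) (z (l k)) =
      Algebra.TensorProduct.map (ρr k) (AlgHom.id K A) (z (r k))) :
    ∃ a : A, ∀ i, (1 : Kv i) ⊗ₜ[K] a = z i := by
  classical
  haveI := Fintype.ofFinite ιv
  set 𝒷 := Module.Free.chooseBasis K A with h𝒷
  -- coordinates
  have hcomp : ∀ j, ∀ k, ρl k ((Algebra.TensorProduct.basis (Kv (l k)) 𝒷).repr (z (l k)) j) =
      ρr k ((Algebra.TensorProduct.basis (Kv (r k)) 𝒷).repr (z (r k)) j) := by
    intro j k
    rw [← repr_map, ← repr_map, hz k]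
  choose c hc using fun j => (hlim (fun i => (Algebra.TensorProduct.basis (Kv i) 𝒷).repr (z i) j)
    (hcomp j)).exists
  have hc0 : ∀ j, (∀ i, (Algebra.TensorProduct.basis (Kv i) 𝒷).repr (z i) j = 0) → c j = 0 := by
    intro j hj
    have h1 := (hlim (fun i => (Algebra.TensorProduct.basis (Kv i) 𝒷).repr (z i) j) (hcomp j)).unique
      (hc j) (y₂ := 0) (by intro i; rw [map_zero, hj i])
    exact h1
  set S : Finset _ := Finset.univ.biUnion
    (fun i => ((Algebra.TensorProduct.basis (Kv i) 𝒷).repr (z i)).support) with hS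
  set cf : _ →₀ K := Finsupp.onFinset S c (by
    intro j hj
    by_contra hjS
    apply hj
    apply hc0
    intro i
    by_contra hne
    apply hjS
    rw [hS, Finset.mem_biUnion]
    exact ⟨i, Finset.mem_univ _, Finsupp.mem_support_iff.mpr hne⟩) with hcf
  refine ⟨𝒷.repr.symm cf, fun i => ?_⟩
  apply (Algebra.TensorProduct.basis (Kv i) 𝒷).repr.injective
  rw [Algebra.TensorProduct.basis_repr_tmul, one_smul, LinearEquiv.apply_symm_apply]
  ext j
  rw [Finsupp.mapRange_apply, hcf, Finsupp.onFinset_apply, hc j i]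

include hlim in
lemma exists_nontrivial : ∃ i0 : ιv, Nontrivial (Kv i0) := by
  by_contra hne
  push Not at hne
  have hsub : ∀ i, Subsingleton (Kv i) := fun i => hne i
  have h := (hlim (fun _ => 0) (fun k => by simp)).unique (y₁ := 0) (y₂ := 1)
    (fun i => Subsingleton.elim _ _) (fun i => Subsingleton.elim _ _)
  exact zero_ne_one h

/-- a retraction of `a ↦ 1 ⊗ a`. -/
lemma exists_retraction (S : Type u) [CommRing S] [Algebra K S] [Nontrivial S] :
    ∃ lam : S →ₗ[K] K, lam 1 = 1 := by
  have hinj : LinearMap.ker (Algebra.linearMap K S) = ⊥ := by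
    rw [LinearMap.ker_eq_bot]
    exact (algebraMap K S).injective
  obtain ⟨g, hg⟩ := LinearMap.exists_leftInverse_of_injective _ hinj
  refine ⟨g, ?_⟩
  have := LinearMap.congr_fun hg 1
  simpa using this

/-- the retraction on tensor products. -/
def ret {S : Type u} [CommRing S] [Algebra K S] (lam : S →ₗ[K] K) (M : Type u) [AddCommGroup M]
    [Module K M] : S ⊗[K] M →ₗ[K] M :=
  (TensorProduct.lid K M).toLinearMap ∘ₗ (LinearMap.rTensor M lam)

lemma ret_tmul {S : Type u} [CommRing S] [Algebra K S] (lam : S →ₗ[K] K) (M : Type u)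
    [AddCommGroup M] [Module K M] (x : S) (m : M) : ret lam M (x ⊗ₜ m) = lam x • m := by
  simp [ret]

lemma one_tmul_injective {S : Type u} [CommRing S] [Algebra K S] [Nontrivial S]
    (M : Type u) [AddCommGroup M] [Module K M] :
    Function.Injective (fun m : M => (1 : S) ⊗ₜ[K] m) := by
  obtain ⟨lam, hlam⟩ := exists_retraction (K := K) S
  intro m m' h
  have := congrArg (ret lam M) h
  simpa [ret_tmul, hlam] using this

end Groth.Agent.Lib.Helper6.BiDesc
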