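import Groth.Agent.Lib.Helper6.BiDesc.Equalizer

set_option linter.unusedSectionVars false
set_option linter.unusedVariables false
set_option linter.unusedSimpArgs false
set_option autoImplicit false
set_option maxHeartbeats 400000

noncomputable section

namespace Groth.Agent.Lib.Helper6.BiDesc

open scoped TensorProduct
open TensorProduct

universe u

variable {K : Type u} [Field K] {S : Type u} [CommRing S] [Algebra K S] [Nontrivial S]
  {A B : Type u} [CommRing A] [CommRing B] [Bialgebra K A] [Bialgebra K B]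
  (u0 : (S ⊗[K] B) ≃ₐc[S] (S ⊗[K] A)) (v : B → A)
  (hv : ∀ b : B, u0 ((1 : S) ⊗ₜ[K] b) = (1 : S) ⊗ₜ[K] v b)

include hv

lemma v_add (b b' : B) : v (b + b') = v b + v b' := by
  apply one_tmul_injective (K := K) (S := S) A
  simp only
  rw [← hv, tmul_add, map_add, hv, hv, tmul_add]

lemma v_mul (b b' : B) : v (b * b') = v b * v b' := by
  apply one_tmul_injective (K := K) (S := S) A
  simp only
  rw [← hv]
  have : (1 : S) ⊗ₜ[K] (b * b') = ((1 : S) ⊗ₜ[K] b) * ((1 : S) ⊗ₜ[K] b') := by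
    rw [Algebra.TensorProduct.tmul_mul_tmul, one_mul]
  rw [this, map_mul, hv, hv, Algebra.TensorProduct.tmul_mul_tmul, one_mul]

lemma v_one : v 1 = 1 := by
  apply one_tmul_injective (K := K) (S := S) A
  simp only
  rw [← hv]
  have : (1 : S) ⊗ₜ[K] (1 : B) = 1 := rfl
  rw [this, map_one]
  rfl

omit hv in
lemma one_tmul_algebraMap (M : Type u) [CommRing M] [Algebra K M] (c : K) :
    (1 : S) ⊗ₜ[K] (algebraMap K M c) = algebraMap S (S ⊗[K] M) (algebraMap K S c) := by
  rw [Algebra.TensorProduct.algebraMap_apply]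
  have e1 : (1 : S) ⊗ₜ[K] algebraMap K M c = c • ((1 : S) ⊗ₜ[K] (1 : M)) := by
    rw [Algebra.algebraMap_eq_smul_one, tmul_smul]
  have e2 : (algebraMap K S c) ⊗ₜ[K] (1 : M) = c • ((1 : S) ⊗ₜ[K] (1 : M)) := by
    rw [Algebra.algebraMap_eq_smul_one, smul_tmul']
  rw [e1]
  exact e2.symm

lemma v_algebraMap (c : K) : v (algebraMap K B c) = algebraMap K A c := by
  apply one_tmul_injective (K := K) (S := S) A
  simp only
  rw [← hv, one_tmul_algebraMap, one_tmul_algebraMap]
  exact AlgEquiv.commutes (u0 : (S ⊗[K] B) ≃ₐ[S] (S ⊗[K] A)) _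

/-- `v` as an algebra hom. -/
def vAlg : B →ₐ[K] A where
  toFun := v
  map_one' := v_one u0 v hv
  map_mul' := v_mul u0 v hv
  map_zero' := by
    have := v_add u0 v hv 0 0
    rw [add_zero] at this
    exact left_eq_add.mp this
  map_add' := v_add u0 v hv
  commutes' := v_algebraMap u0 v hv

lemma vAlg_apply (b : B) : vAlg u0 v hv b = v b := rfl

lemma u0_tmul (x : S) (b : B) : u0 (x ⊗ₜ[K] b) = x ⊗ₜ[K] v b := by
  have h1 : x ⊗ₜ[K] b = x • ((1 : S) ⊗ₜ[K] b) := by
    rw [smul_tmul', smul_eq_mul, mul_one]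
  have h2 : x ⊗ₜ[K] v b = x • ((1 : S) ⊗ₜ[K] v b) := by
    rw [smul_tmul', smul_eq_mul, mul_one]
  rw [h1, h2, map_smul, hv]

lemma v_injective : Function.Injective v := by
  intro b b' h
  apply one_tmul_injective (K := K) (S := S) B
  simp only
  have h1 : u0 ((1 : S) ⊗ₜ[K] b) = u0 ((1 : S) ⊗ₜ[K] b') := by rw [hv, hv, h]
  exact (EquivLike.injective u0) h1

lemma v_ret (lam : S →ₗ[K] K) (w : S ⊗[K] B) : v (ret lam B w) = ret lam A (u0 w) := by
  induction w using TensorProduct.induction_on with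
  | zero =>
    rw [map_zero, map_zero, map_zero]
    exact (vAlg u0 v hv).map_zero
  | tmul x b =>
    rw [ret_tmul, u0_tmul u0 v hv, ret_tmul]
    exact map_smul (vAlg u0 v hv) _ _
  | add x y hx hy =>
    rw [map_add, map_add, map_add, v_add u0 v hv, hx, hy]

lemma v_surjective : Function.Surjective v := by
  obtain ⟨lam, hlam⟩ := exists_retraction (K := K) S
  intro a
  refine ⟨ret lam B (u0.symm ((1 : S) ⊗ₜ[K] a)), ?_⟩
  rw [v_ret u0 v hv]
  have : u0 (u0.symm ((1 : S) ⊗ₜ[K] a)) = (1 : S) ⊗ₜ[K] a := u0.apply_symm_apply _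
  rw [this, ret_tmul, hlam, one_smul]

omit hv in
lemma counit_one_tmul (M : Type u) [CommRing M] [Bialgebra K M] (m : M) :
    Coalgebra.counit (R := S) ((1 : S) ⊗ₜ[K] m) = algebraMap K S (Coalgebra.counit (R := K) m) := by
  rw [TensorProduct.counit_tmul]
  simp [Algebra.smul_def]

lemma v_counit (b : B) : Coalgebra.counit (R := K) (v b) = Coalgebra.counit (R := K) b := by
  apply (algebraMap K S).injective
  rw [← counit_one_tmul, ← counit_one_tmul, ← hv, CoalgHomClass.counit_comp_apply]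

omit hv in
/-- the comparison map `M ⊗ M → (S ⊗ M) ⊗_S (S ⊗ M)`. -/
def Jmap (M : Type u) [AddCommGroup M] [Module K M] : M ⊗[K] M →ₗ[K] (S ⊗[K] M) ⊗[S] (S ⊗[K] M) :=
  ((TensorProduct.AlgebraTensorModule.distribBaseChange K S M M).toLinearMap.restrictScalars K) ∘ₗ
    (TensorProduct.mk K S (M ⊗[K] M) 1)

omit hv in
lemma Jmap_tmul (M : Type u) [AddCommGroup M] [Module K M] (m m' : M) :
    Jmap (K := K) (S := S) M (m ⊗ₜ m') = ((1 : S) ⊗ₜ[K] m) ⊗ₜ[S] ((1 : S) ⊗ₜ[K] m') := by
  simp [Jmap]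

omit hv in
lemma Jmap_injective (M : Type u) [AddCommGroup M] [Module K M] :
    Function.Injective (Jmap (K := K) (S := S) M) := by
  intro t t' h
  simp only [Jmap, LinearMap.coe_comp, Function.comp_apply, LinearMap.coe_restrictScalars,
    LinearEquiv.coe_coe, EmbeddingLike.apply_eq_iff_eq] at h
  exact one_tmul_injective (K := K) (S := S) (M ⊗[K] M) h

omit hv in
lemma comul_one_tmul (M : Type u) [CommRing M] [Bialgebra K M] (m : M) :
    Coalgebra.comul (R := S) ((1 : S) ⊗ₜ[K] m) =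
      Jmap (K := K) (S := S) M (Coalgebra.comul (R := K) m) := by
  rw [TensorProduct.comul_tmul]
  simp only [CommSemiring.comul_apply, Jmap, LinearMap.coe_comp, Function.comp_apply,
    LinearMap.coe_restrictScalars, LinearEquiv.coe_coe, TensorProduct.mk_apply]
  generalize Coalgebra.comul (R := K) m = t
  induction t using TensorProduct.induction_on with
  | zero => simp
  | tmul x y => simp
  | add x y hx hy => simp only [tmul_add, map_add, hx, hy]

lemma map_u0_Jmap (t : B ⊗[K] B) :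
    TensorProduct.map (u0 : (S ⊗[K] B) →ₗ[S] (S ⊗[K] A)) (u0 : (S ⊗[K] B) →ₗ[S] (S ⊗[K] A))
      (Jmap (K := K) (S := S) B t) =
    Jmap (K := K) (S := S) A (TensorProduct.map (vAlg u0 v hv).toLinearMap (vAlg u0 v hv).toLinearMap t) := by
  induction t using TensorProduct.induction_on with
  | zero => simp
  | tmul b b' =>
    rw [Jmap_tmul, TensorProduct.map_tmul, TensorProduct.map_tmul, Jmap_tmul]
    simp only [AlgHom.toLinearMap_apply, vAlg_apply]
    have h1 : (u0 : (S ⊗[K] B) →ₗ[S] (S ⊗[K] A)) ((1 : S) ⊗ₜ[K] b) = (1 : S) ⊗ₜ[K] v b := hv b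
    have h2 : (u0 : (S ⊗[K] B) →ₗ[S] (S ⊗[K] A)) ((1 : S) ⊗ₜ[K] b') = (1 : S) ⊗ₜ[K] v b' := hv b'
    rw [h1, h2]
  | add x y hx hy =>
    simp only [map_add, hx, hy]

lemma v_comul (b : B) :
    Coalgebra.comul (R := K) (v b) =
      TensorProduct.map (vAlg u0 v hv).toLinearMap (vAlg u0 v hv).toLinearMap
        (Coalgebra.comul (R := K) b) := by
  apply Jmap_injective (K := K) (S := S) A
  rw [← map_u0_Jmap u0 v hv, ← comul_one_tmul, ← comul_one_tmul, ← hv]
  exact (CoalgHomClass.map_comp_comul_apply u0 _).symm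

/-- The descended bialgebra isomorphism. -/
theorem exists_bialgEquiv : ∃ V : B ≃ₐc[K] A, ∀ b, V b = v b := by
  let e : B ≃ₐ[K] A := AlgEquiv.ofBijective (vAlg u0 v hv) ⟨v_injective u0 v hv, v_surjective u0 v hv⟩
  refine ⟨BialgEquiv.ofAlgEquiv e ?_ ?_, fun b => rfl⟩
  · ext b
    exact v_counit u0 v hv b
  · ext b
    change Algebra.TensorProduct.map (e : B →ₐ[K] A) (e : B →ₐ[K] A) (Coalgebra.comul (R := K) b) =
      Coalgebra.comul (R := K) (v b)
    rw [v_comul u0 v hv]
    rfl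

end Groth.Agent.Lib.Helper6.BiDesc
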